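import Mathlib
import Cfsg.Agent.Lib.Small.PSpn.Simple
import Cfsg.Agent.Lib.Small.PSpn.Points
import Cfsg.Agent.Lib.Classical.SymplecticCount

/-!
The symplectic group of dimension six over two elements on its 63 nonzero vectors.
-/

set_option autoImplicit false
set_option maxRecDepth 20000

noncomputable section

namespace Cfsg.Agent.Lie.SymplecticSix

open Matrix Cfsg.Agent.Small.PSpn

/-- The bit index of a coordinate. -/
def cidx : Fin 3 ⊕ Fin 3 → ℕ
  | .inl i => i
  | .inr i => i + 3

/-- The `k`-th nonzero vector over two elements. -/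
def vec2 (k : ℕ) : Fin 3 ⊕ Fin 3 → ZMod 2 := fun c => bif (k + 1).testBit (cidx c) then 1 else 0

/-- The form on packed vectors. -/
def bform (u v : ℕ) : Bool :=
  ((List.range 3).map fun i => (u.testBit i && v.testBit (i + 3)) ^^ (v.testBit i && u.testBit (i + 3))).foldr xor false

/-- A transvection on the indices. -/
def tvN (a k : ℕ) : ℕ := ((k + 1) ^^^ (bif bform (a + 1) (k + 1) then a + 1 else 0)) - 1

theorem vec2_facts : (∀ w : Fin 3 ⊕ Fin 3 → ZMod 2, w ≠ 0 → ∃ k : Fin 63, vec2 k = w) ∧
    (∀ k : Fin 63, vec2 k ≠ 0) ∧ ∀ k l : Fin 63, vec2 k = vec2 l → k = l := by decide +kernel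

theorem tvN_spec : ∀ a k : Fin 63, tvN a k < 63 ∧ ∀ c, vec2 (tvN a k) c =
    vec2 k c + Cfsg.sympForm 3 (ZMod 2) (vec2 a) (vec2 k) * vec2 a c := by decide +kernel

variable {F : Type*} [Field F] [Fintype F]

theorem charP_two (hF : Fintype.card F = 2) : CharP F 2 :=
  haveI : Fact (Nat.Prime 2) := ⟨Nat.prime_two⟩
  charP_of_card_eq_prime (p := 2) hF

/-- The prime field map. -/
def coe2 (hF : Fintype.card F = 2) : ZMod 2 →+* F :=
  haveI := charP_two hF
  ZMod.castHom (dvd_refl 2) F

theorem coe2_bijective (hF : Fintype.card F = 2) : Function.Bijective (coe2 hF) :=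
  (RingHom.injective _).bijective_of_nat_card_le (by simp [Nat.card_eq_fintype_card, hF])

variable (hF : Fintype.card F = 2)

/-- The `k`-th nonzero vector. -/
def pvec (k : ℕ) : Fin 3 ⊕ Fin 3 → F := fun c => coe2 hF (vec2 k c)

theorem pvec_ne (k : Fin 63) : pvec hF k ≠ 0 := fun h =>
  vec2_facts.2.1 k (funext fun c => (coe2_bijective hF).1 (by rw [Pi.zero_apply, map_zero]; exact congrFun h c))

theorem pvec_inj {k l : Fin 63} (h : pvec hF k = pvec hF l) : k = l :=
  vec2_facts.2.2 k l (funext fun c => (coe2_bijective hF).1 (congrFun h c))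

theorem exists_pvec {v : Fin 3 ⊕ Fin 3 → F} (hv : v ≠ 0) : ∃ k : Fin 63, pvec hF k = v := by
  choose w hw using fun c => (coe2_bijective hF).2 (v c)
  obtain ⟨k, hk⟩ := vec2_facts.1 w (fun h => hv (funext fun c => by
    rw [← hw c, h, Pi.zero_apply, map_zero, Pi.zero_apply]))
  exact ⟨k, funext fun c => by rw [pvec, hk]; exact hw c⟩

theorem exists_image (g : Matrix.symplecticGroup (Fin 3) F) (k : Fin 63) :
    ∃ l : Fin 63, pvec hF l = act g (pvec hF k) :=
  exists_pvec hF (act_ne_zero (pvec_ne hF k) g)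

/-- The image of a point. -/
def image (g : Matrix.symplecticGroup (Fin 3) F) (k : Fin 63) : Fin 63 := (exists_image hF g k).choose

theorem image_spec (g : Matrix.symplecticGroup (Fin 3) F) (k : Fin 63) :
    pvec hF (image hF g k) = act g (pvec hF k) := (exists_image hF g k).choose_spec

/-- The permutation representation. -/
def permHom : Matrix.symplecticGroup (Fin 3) F →* Equiv.Perm (Fin 63) :=
  MonoidHom.mk' (fun g => Equiv.ofBijective (image hF g) (Finite.injective_iff_bijective.1 fun a b e =>
    pvec_inj hF (act_injective g (by rw [← image_spec, ← image_spec, e])))) fun g h => Equiv.ext fun k =>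
    pvec_inj hF (by
      show pvec hF (image hF (g * h) k) = pvec hF (image hF g (image hF h k))
      rw [image_spec, image_spec, image_spec, act_mul])

theorem permHom_injective : Function.Injective (permHom hF) := by
  intro g h e
  refine eq_of_act fun x => ?_
  by_cases hx : x = 0
  · rw [hx, act_zero, act_zero]
  obtain ⟨k, rfl⟩ := exists_pvec hF hx
  rw [← image_spec, ← image_spec]
  exact congrArg (fun l : Fin 63 => pvec hF l) (Equiv.congr_fun e k)

/-- A transvection. -/
def trans (a : ℕ) : Matrix.symplecticGroup (Fin 3) F := eich (pvec hF a) 0 1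

theorem coe2_form (u v : Fin 3 ⊕ Fin 3 → ZMod 2) :
    coe2 hF (Cfsg.sympForm 3 (ZMod 2) u v) = Cfsg.sympForm 3 F (fun c => coe2 hF (u c)) (fun c => coe2 hF (v c)) := by
  rw [Cfsg.sympForm, Cfsg.sympForm, RingHom.map_dotProduct]
  congr 1
  funext c
  rw [Function.comp_apply, RingHom.map_mulVec]
  congr 2
  rw [Matrix.J, Matrix.J, Matrix.fromBlocks_map]
  have hneg : (-1 : Matrix (Fin 3) (Fin 3) (ZMod 2)).map (coe2 hF) = -1 := by
    ext i j
    by_cases hij : i = j
    · subst hij
      haveI := charP_two hF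
      simp [CharTwo.neg_eq]
    · simp [hij]
  simp [Matrix.map_zero, Matrix.map_one, hneg]

theorem permHom_trans (a k : Fin 63) : (permHom hF (trans hF a) k : ℕ) = tvN a k := by
  obtain ⟨hlt, he⟩ := tvN_spec a k
  have : permHom hF (trans hF a) k = ⟨tvN a k, hlt⟩ := pvec_inj hF (by
    show pvec hF (image hF (trans hF a) k) = _
    rw [image_spec, trans, act_eich_zero]
    funext c
    show pvec hF k c + (1 * sf (pvec hF a) (pvec hF k)) • pvec hF a c = coe2 hF (vec2 (tvN a k) c)
    rw [he c, map_add, map_mul, coe2_form, one_mul, smul_eq_mul]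
    rfl)
  exact congrArg Fin.val this

theorem closure_trans :
    Subgroup.closure (Set.range fun a : Fin 63 => trans hF a) = (⊤ : Subgroup (Matrix.symplecticGroup (Fin 3) F)) := by
  rw [← top_le_iff, ← sp_generated, TG, Subgroup.closure_le]
  rintro _ ⟨v, t, rfl⟩
  by_cases hv : v = 0
  · rw [show eich v 0 t = 1 from eq_of_act fun x => by rw [act_eich_zero, hv, smul_zero, add_zero, act_one]]
    exact one_mem _
  obtain ⟨s, rfl⟩ := (coe2_bijective hF).2 t
  rcases (by decide : ∀ s : ZMod 2, s = 0 ∨ s = 1) s with rfl | rfl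
  · rw [map_zero, show eich v 0 (0 : F) = 1 from eq_of_act fun x => by
      rw [act_eich_zero, zero_mul, zero_smul, add_zero, act_one]]
    exact one_mem _
  · obtain ⟨a, rfl⟩ := exists_pvec hF hv
    rw [map_one]
    exact Subgroup.subset_closure ⟨a, rfl⟩

include hF in
theorem center_eq_bot : Subgroup.center (Matrix.symplecticGroup (Fin 3) F) = ⊥ := by
  rw [Subgroup.eq_bot_iff_forall]
  intro g hg
  refine eq_of_act fun x => ?_
  rw [act_one]
  by_cases hx : x = 0
  · rw [hx, act_zero]
  obtain ⟨z, hz⟩ := exists_partner hx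
  have h := congrArg (fun M => act M z) (Subgroup.mem_center_iff.1 hg (eich x 0 1))
  simp only [act_mul, act_eich_zero, hz, mul_one, one_smul, act_add, one_mul] at h
  have h2 : sf x (act g z) • x = act g x := add_left_cancel h
  obtain ⟨s, hs⟩ := (coe2_bijective hF).2 (sf x (act g z))
  rcases (by decide : ∀ s : ZMod 2, s = 0 ∨ s = 1) s with rfl | rfl
  · rw [map_zero] at hs
    rw [← hs, zero_smul] at h2
    exact absurd h2.symm (act_ne_zero hx g)
  · rw [map_one] at hs
    rw [← hs, one_smul] at h2
    exact h2.symm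

include hF in
theorem card_sp : Nat.card (Matrix.symplecticGroup (Fin 3) F) = 1451520 := by
  rw [Classical.SpCount.card_symplecticGroup, hF]
  decide

end Cfsg.Agent.Lie.SymplecticSix
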