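import Mathlib
import Cfsg.Agent.Lib.Lie.SymplecticSix.Points
import Cfsg.Agent.Lib.Lie.SymplecticSix.Data

/-!
Definitions of the checks for the multiplier of the symplectic group of dimension six over two elements.
-/

set_option autoImplicit false
set_option maxRecDepth 20000

namespace Cfsg.Agent.Lie.SymplecticSix

open Cfsg.Agent.Lie CentralTable

/-- A product of transvections applied to a point. -/
def evalT (w : List ℕ) (k : ℕ) : ℕ := w.foldr (fun a j => tvN a j) k

/-- The generators are products of transvections and the transvections are words. -/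
def genCheck (k : ℕ) : Bool :=
  (Nat.beq (evalT transX k) (pget certG.g0 k) && Nat.beq (evalT transY k) (pget certG.g1 k)) &&
  ((Nat.beq (evalT transA k) (pget certH.g0 k) && Nat.beq (evalT transB k) (pget certH.g1 k)) &&
  ((Nat.beq (pget certG.h0 k) (pget certH.g0 k) && Nat.beq (pget certG.h1 k) (pget certH.g1 k)) &&
  ((Nat.beq (pget certH.h0 k) (pget certH.g0 k) && Nat.beq (pget certH.h1 k) (pget certH.g0 k)) &&
  ((Nat.beq (Cert.evalP certG.g0 certG.g1 (List.replicate 7 false) k) k &&
    Nat.beq (Cert.evalP certG.g0 certG.g1 (List.replicate 7 true) k) k) &&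
  (Nat.beq (Cert.evalP certH.g0 certH.g1 (List.replicate 7 false) k) k &&
    Nat.beq (Cert.evalP certH.g0 certH.g1 (List.replicate 7 true) k) k)))))

/-- The transvections as words. -/
def transCheck (a : ℕ) : Bool :=
  (List.range 63).all fun k => Nat.beq (Cert.evalP certG.g0 certG.g1 (transWord.get a) k) (tvN a k)

/-- The words only use valid indices. -/
def idxCheck : Bool := (transX ++ transY ++ transA ++ transB).all fun a => Nat.blt a 63

end Cfsg.Agent.Lie.SymplecticSix
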