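import Mathlib
import Cfsg.Agent.Lib.Lie.SymplecticSix.Defs

/-!
Kernel checks for the multiplier of the symplectic group of dimension six over two elements.
-/

set_option autoImplicit false
set_option maxRecDepth 100000
set_option maxHeartbeats 0

namespace Cfsg.Agent.Lie.SymplecticSix

open Cfsg.Agent.Lie CentralTable

theorem gen_ok : (List.range 63).all genCheck = true := by decide +kernel

theorem trans_ok : (List.range 63).all transCheck = true := by decide +kernel

theorem idx_ok : idxCheck = true := by decide +kernel

theorem g_edges : (List.range 240).all certG.edgeCheck = true := by decide +kernel

theorem g_tree : (List.range 240).all certG.treeCheck = true := by decide +kernel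

theorem g_rels : certG.rels.all certG.relCheck = true := by decide +kernel

theorem g_vars : (List.range certG.V).all certG.varCheck = true := by decide +kernel

theorem g_combos : certG.combos.all certG.comboCheck = true := by decide +kernel

theorem g_targets : certG.lenCheck = true ∧ certG.twoTargets 7 2 parityG = true := by decide +kernel

theorem h_edges : (List.range 864).all certH.edgeCheck = true := by decide +kernel

theorem h_tree : (List.range 864).all certH.treeCheck = true := by decide +kernel

theorem h_rels : certH.rels.all certH.relCheck = true := by decide +kernel

theorem h_vars : (List.range certH.V).all certH.varCheck = true := by decide +kernel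

theorem h_combos : certH.combos.all certH.comboCheck = true := by decide +kernel

theorem h_targets : certH.lenCheck = true ∧ certH.killTargets 7 = true := by decide +kernel

end Cfsg.Agent.Lie.SymplecticSix
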