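import Mathlib
import Cfsg.Agent.Lib.Lie.SymplecticSix.Data

/-!
Kernel checks for the double cover of the symplectic group of dimension six over two elements.
-/

set_option autoImplicit false
set_option maxRecDepth 100000
set_option maxHeartbeats 0

namespace Cfsg.Agent.Lie.SymplecticSix

open Cfsg.Agent.Lie CentralTable

theorem sign_rows0 : (List.range 240).all (signs.rowCheck certG) = true := by decide +kernel

theorem sign_rows1 : (List.range 240).all (fun a => signs.rowCheck certG (240 + a)) = true := by decide +kernel

theorem sign_tree : (List.range 240).all (signs.treeOK 240) = true := by decide +kernel

theorem sign_words : signs.wordOK certG = true := by decide +kernel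

end Cfsg.Agent.Lie.SymplecticSix
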