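import Mathlib
import Cfsg.Agent.Lib.Small.PSLThreeTwo
import Cfsg.Agent.Lib.Lie.CentralDouble
import Cfsg.Agent.Lib.Lie.SymplecticSix.Checks
import Cfsg.Agent.Lib.Lie.SymplecticSix.SignChecks

/-!
The Schur multiplier of the symplectic group of dimension six over two elements has order two.
-/

set_option autoImplicit false
set_option maxRecDepth 20000
set_option maxHeartbeats 1000000
set_option linter.style.haveILetI false

noncomputable section

namespace Cfsg.Agent.Lie.SymplecticSix

open Cfsg.Agent.Lie

attribute [local irreducible] CentralTable.pget CentralTable.Cert.evalP CentralTable.Cert.edgeCheck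
  CentralTable.Cert.treeCheck CentralTable.Cert.relCheck CentralTable.Cert.varCheck CentralTable.Cert.comboCheck
  CentralTable.Signs.rowCheck CentralTable.Signs.treeOK CentralTable.Signs.wordOK genCheck transCheck tvN

theorem gen_facts (k : Fin 63) :
    (evalT transX k = CentralTable.pget certG.g0 k ∧ evalT transY k = CentralTable.pget certG.g1 k) ∧
    (evalT transA k = CentralTable.pget certH.g0 k ∧ evalT transB k = CentralTable.pget certH.g1 k) ∧
    (CentralTable.pget certG.h0 k = CentralTable.pget certH.g0 k ∧
      CentralTable.pget certG.h1 k = CentralTable.pget certH.g1 k) ∧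
    (CentralTable.pget certH.h0 k = CentralTable.pget certH.g0 k ∧
      CentralTable.pget certH.h1 k = CentralTable.pget certH.g0 k) ∧
    (CentralTable.Cert.evalP certG.g0 certG.g1 (List.replicate 7 false) k = k ∧
      CentralTable.Cert.evalP certG.g0 certG.g1 (List.replicate 7 true) k = k) ∧
    (CentralTable.Cert.evalP certH.g0 certH.g1 (List.replicate 7 false) k = k ∧
      CentralTable.Cert.evalP certH.g0 certH.g1 (List.replicate 7 true) k = k) := by
  have h := List.all_eq_true.1 gen_ok k (List.mem_range.2 k.2)
  unfold genCheck at h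
  simp only [Bool.and_eq_true, Nat.beq_eq] at h
  exact h

theorem certH_valid : certH.Valid where
  npos := by show 0 < 864; norm_num
  edges i hi := List.all_eq_true.1 h_edges i (List.mem_range.2 hi)
  tree i hi := List.all_eq_true.1 h_tree i (List.mem_range.2 hi)
  rels := List.all_eq_true.1 h_rels
  vars v hv := List.all_eq_true.1 h_vars v (List.mem_range.2 hv)
  combos := List.all_eq_true.1 h_combos

theorem certG_valid : certG.Valid where
  npos := by show 0 < 240; norm_num
  edges i hi := List.all_eq_true.1 g_edges i (List.mem_range.2 hi)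
  tree i hi := List.all_eq_true.1 g_tree i (List.mem_range.2 hi)
  rels := List.all_eq_true.1 g_rels
  vars v hv := List.all_eq_true.1 g_vars v (List.mem_range.2 hv)
  combos := List.all_eq_true.1 g_combos

variable {F : Type*} [Field F] [Fintype F] (hF : Fintype.card F = 2)

local notation "Gm" => Matrix.symplecticGroup (Fin 3) F

/-- A product of transvections. -/
def prodT (w : List ℕ) : Gm := (w.map fun a => trans hF a).prod

theorem prodT_apply (w : List ℕ) (hw : ∀ a ∈ w, a < 63) (k : Fin 63) :
    (permHom hF (prodT hF w) k : ℕ) = evalT w k := by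
  induction w with
  | nil => simp [prodT, evalT]
  | cons a w ih =>
    simp only [prodT, List.map_cons, List.prod_cons, map_mul, Equiv.Perm.mul_apply]
    rw [permHom_trans hF ⟨a, hw a List.mem_cons_self⟩, show evalT (a :: w) k = tvN a (evalT w k) from rfl,
      ← ih fun b hb => hw b (List.mem_cons_of_mem _ hb)]
    rfl

theorem idx_lt : (∀ a ∈ transX, a < 63) ∧ (∀ a ∈ transY, a < 63) ∧ (∀ a ∈ transA, a < 63) ∧
    (∀ a ∈ transB, a < 63) := by
  have h := idx_ok
  simp only [idxCheck, List.all_eq_true, List.mem_append, Nat.blt_eq] at h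
  exact ⟨fun a ha => h a (Or.inl (Or.inl (Or.inl ha))), fun a ha => h a (Or.inl (Or.inl (Or.inr ha))),
    fun a ha => h a (Or.inl (Or.inr ha)), fun a ha => h a (Or.inr ha)⟩

/-- The generators of the group. -/
def gx (s : Bool) : Gm := prodT hF (bif s then transY else transX)

/-- The generators of the subgroup. -/
def ga (s : Bool) : Gm := prodT hF (bif s then transB else transA)

theorem rep_gx (s : Bool) : CentralTable.Rep (permHom hF) (gx hF s) (bif s then certG.g1 else certG.g0) := by
  intro k
  cases s
  · exact (prodT_apply hF _ idx_lt.1 k).trans (gen_facts k).1.1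
  · exact (prodT_apply hF _ idx_lt.2.1 k).trans (gen_facts k).1.2

theorem rep_ga (s : Bool) : CentralTable.Rep (permHom hF) (ga hF s) (bif s then certH.g1 else certH.g0) := by
  intro k
  cases s
  · exact (prodT_apply hF _ idx_lt.2.2.1 k).trans (gen_facts k).2.1.1
  · exact (prodT_apply hF _ idx_lt.2.2.2 k).trans (gen_facts k).2.1.2

theorem gx_seven (s : Bool) : gx hF s ^ 7 = 1 := by
  refine CentralTable.eq_of_rep (permHom_injective hF) fun k => ?_
  rw [show gx hF s ^ 7 = CentralTable.ev (gx hF) (List.replicate 7 s) by
    rw [CentralTable.ev, List.map_replicate, List.prod_replicate], CentralTable.rep_ev (rep_gx hF), map_one]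
  cases s
  exacts [(gen_facts k).2.2.2.2.1.1, (gen_facts k).2.2.2.2.1.2]

theorem ga_seven (s : Bool) : ga hF s ^ 7 = 1 := by
  refine CentralTable.eq_of_rep (permHom_injective hF) fun k => ?_
  rw [show ga hF s ^ 7 = CentralTable.ev (ga hF) (List.replicate 7 s) by
    rw [CentralTable.ev, List.map_replicate, List.prod_replicate], CentralTable.rep_ev (rep_ga hF), map_one]
  cases s
  exacts [(gen_facts k).2.2.2.2.2.1, (gen_facts k).2.2.2.2.2.2]

theorem gx_gen : Subgroup.closure (Set.range (gx hF)) = ⊤ := by
  rw [← top_le_iff, ← closure_trans hF, Subgroup.closure_le]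
  rintro _ ⟨a, rfl⟩
  show trans hF a ∈ _
  rw [show trans hF a = CentralTable.ev (gx hF) (transWord.get a) from
    CentralTable.eq_of_rep (permHom_injective hF) fun k => by
      have h := List.all_eq_true.1 trans_ok a (List.mem_range.2 a.2)
      unfold transCheck at h
      rw [List.all_eq_true] at h
      rw [permHom_trans, CentralTable.rep_ev (rep_gx hF)]
      exact (Nat.eq_of_beq_eq_true (h k (List.mem_range.2 k.2))).symm]
  exact CentralTable.ev_mem _ _

/-- The subgroup of index 240. -/
def subH : Subgroup Gm := Subgroup.closure (Set.range (ga hF))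

theorem ga_mem (s : Bool) : ga hF s ∈ subH hF := Subgroup.subset_closure ⟨s, rfl⟩

/-- The table of the group itself. -/
def baseG : CentralTable.Setup certG Gm Gm where
  σ := MonoidHom.id _
  φ := permHom hF
  faithful := permHom_injective hF
  central := by rw [MonoidHom.ker_id]; exact bot_le
  x := gx hF
  y := ga hF
  rep_x := rep_gx hF
  rep_y := fun s k => by
    refine (rep_ga hF s k).trans ?_
    cases s
    exacts [(gen_facts k).2.2.1.1.symm, (gen_facts k).2.2.1.2.symm]
  pow_x := fun s => by cases s <;> exact gx_seven hF _
  inj := fun _ h => h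
  valid := certG_valid

/-- The table of the subgroup itself. -/
def baseH : CentralTable.Setup certH Gm Gm where
  σ := MonoidHom.id _
  φ := permHom hF
  faithful := permHom_injective hF
  central := by rw [MonoidHom.ker_id]; exact bot_le
  x := ga hF
  y := fun _ => ga hF false
  rep_x := rep_ga hF
  rep_y := fun s k => by
    refine (rep_ga hF false k).trans ?_
    cases s
    exacts [(gen_facts k).2.2.2.1.1.symm, (gen_facts k).2.2.2.1.2.symm]
  pow_x := fun s => by cases s <;> exact ga_seven hF _
  inj := fun _ h => h
  valid := certH_valid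

theorem card_subH : Nat.card (subH hF) = 6048 := by
  refine le_antisymm ?_ ?_
  · have hset : (subH hF : Set Gm) ⊆
        Set.range fun k : Fin 7 × Fin 864 => ga hF false ^ k.1.val * (baseH hF).t k.2 := by
      intro g hg
      obtain ⟨i, hi, z, hz, l, rfl⟩ := (baseH hF).cover ⊥ (fun v _ => by
        have h := ((baseH hF).val v).2
        rw [MonoidHom.mem_ker] at h
        rw [Subgroup.mem_bot]
        exact h) hg
      rw [Subgroup.mem_bot.1 hz, one_mul]
      refine ⟨(⟨l.length % 7, Nat.mod_lt _ (by norm_num)⟩, ⟨i, hi⟩), ?_⟩
      show ga hF false ^ (l.length % 7) * (baseH hF).t i = CentralTable.ev (fun _ => ga hF false) l * (baseH hF).t i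
      rw [CentralTable.ev, List.map_const', List.prod_replicate, ← pow_eq_pow_mod l.length (ga_seven hF false)]
    rw [← SetLike.coe_sort_coe, Nat.card_coe_set_eq]
    refine (Set.ncard_le_ncard hset).trans ?_
    rw [← Nat.card_coe_set_eq]
    exact (Finite.card_range_le _).trans (by simp)
  · have hsurj : Function.Surjective fun p : subH hF × Fin 240 => (p.1 : Gm) * (baseG hF).t p.2 := fun g => by
      obtain ⟨k, hk, hm⟩ := (baseG hF).exists_coset (subH hF) (ga_mem hF) (gx_gen hF) g
      exact ⟨(⟨_, hm⟩, ⟨k, hk⟩), inv_mul_cancel_right _ _⟩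
    have := Nat.card_le_card_of_surjective _ hsurj
    rw [Nat.card_prod, Nat.card_fin, card_sp hF] at this
    omega

theorem coset_bound : certG.N * Nat.card (subH hF) ≤ Nat.card Gm := by
  rw [card_subH, card_sp hF]
  show 240 * 6048 ≤ 1451520
  norm_num

include hF in
theorem upper (Γ : Type*) [Group Γ] [Finite Γ] (σ : Γ →* Gm) (hσ : Cfsg.IsStemExtension σ) :
    ∃ g : σ.ker, g ^ 2 = 1 ∧ ∀ k : σ.ker, k ∈ Subgroup.zpowers g := by
  haveI : Finite Gm := Nat.finite_of_card_ne_zero (by rw [card_sp hF]; norm_num)
  have hker : ∀ z : σ.ker, z ^ 7 = 1 → z = 1 :=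
    CentralTable.ker_no_torsion hσ (by norm_num) (by rw [card_sp hF]; decide)
  choose X hX hX7 using fun s => CentralTable.exists_lift hσ.1 hσ.2.1 hker (gx_seven hF s)
  choose Y hY hY7 using fun s => CentralTable.exists_lift hσ.1 hσ.2.1 hker (ga_seven hF s)
  have hne : ga hF false ≠ 1 := fun e => by
    have h : (List.range 63).all (fun k => Nat.beq (CentralTable.pget certH.g0 k) k) = true := by
      rw [List.all_eq_true]
      intro k hk
      rw [Nat.beq_eq]
      have h0 := rep_ga hF false ⟨k, List.mem_range.1 hk⟩
      rw [e, map_one] at h0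
      exact h0.symm
    exact absurd h (by decide +kernel)
  let S1 : CentralTable.Setup certH Γ Gm :=
    { σ := σ, φ := permHom hF, faithful := permHom_injective hF, central := hσ.2.1, x := Y, y := fun _ => Y false
      rep_x := fun s => (hY s).symm ▸ rep_ga hF s
      rep_y := fun s k => by
        rw [hY]
        exact (baseH hF).rep_y s k
      pow_x := fun s => by cases s <;> exact hY7 _
      inj := fun w hw => by
        rw [CentralTable.ev, List.map_const', List.prod_replicate] at hw ⊢
        rw [map_pow, hY] at hw
        haveI : Fact (Nat.Prime 7) := ⟨by norm_num⟩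
        obtain ⟨m, hm⟩ := (orderOf_eq_prime (ga_seven hF false) hne) ▸ orderOf_dvd_of_pow_eq_one hw
        rw [hm, pow_mul, hY7, one_pow]
      valid := certH_valid }
  have hinj := S1.inj_stage (fun _ => rfl) (hY7 false) hker h_targets.1 h_targets.2 (by
    show 864 * 7 ≤ Nat.card ((Subgroup.closure (Set.range Y)).map σ)
    rw [MonoidHom.map_closure, ← Set.range_comp, show σ ∘ Y = ga hF from funext hY,
      show Subgroup.closure (Set.range (ga hF)) = subH hF from rfl, card_subH]) (by norm_num)
  let S2 : CentralTable.Setup certG Γ Gm :=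
    { σ := σ, φ := permHom hF, faithful := permHom_injective hF, central := hσ.2.1, x := X, y := Y
      rep_x := fun s => (hX s).symm ▸ rep_gx hF s
      rep_y := fun s k => by
        rw [hY]
        exact (baseG hF).rep_y s k
      pow_x := fun s => by cases s <;> exact hX7 _
      inj := fun w hw => hinj _ (CentralTable.ev_mem _ _) hw
      valid := certG_valid }
  exact S2.two_stage hσ (subH hF) (fun s => (hY s).symm ▸ ga_mem hF s)
    (by show Subgroup.closure (Set.range fun s => σ (X s)) = ⊤
        rw [show (fun s => σ (X s)) = gx hF from funext hX]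
        exact gx_gen hF)
    (coset_bound hF) parityG hker (show 2 < 13 by norm_num) g_targets.1 g_targets.2

theorem multiplier_symplectic {F : Type*} [Field F] [Fintype F] (hF : Fintype.card F = 2) :
    Cfsg.HasCyclicSchurMultiplier (Matrix.symplecticGroup (Fin 3) F) 2 := by
  haveI : Finite (Matrix.symplecticGroup (Fin 3) F) := Nat.finite_of_card_ne_zero (by rw [card_sp hF]; norm_num)
  refine CentralTable.DoubleSetup.hasCyclicSchur (G := Matrix.symplecticGroup (Fin 3) F) (C := certG) (D := signs)
    { φ := permHom hF
      faithful := permHom_injective hF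
      x := gx hF
      rep_x := rep_gx hF
      H := subH hF
      t := fun i => (baseG hF).t i
      step_lt := fun i hi s => (baseG hF).step_lt hi s
      edge := fun i s => by
        rw [show (baseG hF).t i * gx hF s = _ from (baseG hF).edge_image i.2 s]
        show CentralTable.ev (ga hF) _ * _ * _ ∈ subH hF
        rw [mul_inv_cancel_right]
        exact CentralTable.ev_mem _ _
      inj := fun i j h => Fin.ext ((baseG hF).coset_inj (subH hF) (ga_mem hF) (gx_gen hF) (coset_bound hF) i.2 j.2 h)
      gen := gx_gen hF
      npos := certG_valid.npos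
      odd := ⟨⟨3, rfl⟩, ⟨3, rfl⟩⟩
      invariant := fun a ha b hb hab => by
        refine CentralTable.Signs.pair_of_rowCheck certG signs ?_ hb hab
        rcases Nat.lt_or_ge a 240 with h | h
        · exact List.all_eq_true.1 sign_rows0 a (List.mem_range.2 h)
        · rw [show a = 240 + (a - 240) by omega]
          exact List.all_eq_true.1 sign_rows1 _ (List.mem_range.2 (by
            have : a < 480 := ha
            omega))
      tree := fun i hi => List.all_eq_true.1 sign_tree i (List.mem_range.2 hi)
      words := sign_words } ?_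
  intro Γ _ _ σ hσ
  exact upper hF Γ σ hσ

/-- The Schur multiplier of `PSp₆(2)` has order two. -/
theorem multiplier {F : Type*} [Field F] [Fintype F] (hF : Fintype.card F = 2) :
    Cfsg.HasCyclicSchurMultiplier (Cfsg.PSp 3 F) 2 :=
  Cfsg.Agent.Small.PSLThreeTwo.transport
    ((QuotientGroup.quotientBot).symm.trans (QuotientGroup.quotientMulEquivOfEq (center_eq_bot hF).symm))
    (multiplier_symplectic hF)

end Cfsg.Agent.Lie.SymplecticSix
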